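-- helper1: project CHO (S1082), packages [ST-D4-k], k = 0, 1, 2 (one generic reduction step).
import Mathlib
import Cfsg.Agent.Lib.Helper99.CHO.Defs2
import Cfsg.Agent.Lib.Helper46.CHO.FinD4

set_option autoImplicit false
set_option linter.unusedSimpArgs false
set_option linter.unusedVariables false
open scoped MatrixGroups
open Matrix

namespace Cfsg.Agent.Lib.Helper1.CHO
open Cfsg.Agent.Lib.Helper99.CHO Cfsg.Agent.Lib.Helper46.CHO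

universe u

/-- integer matrix of the root `ε_i - ε_j`: `e_j ↦ e_i`, `f_i ↦ -f_j`. -/
def cAZ (i j : Fin 4) (a b : Fin 4 ⊕ Fin 4) : ℤ :=
  (if a = Sum.inl i ∧ b = Sum.inl j then 1 else 0) -
    (if a = Sum.inr j ∧ b = Sum.inr i then 1 else 0)

/-- integer matrix of the root `ε_i + ε_j`: `f_j ↦ e_i`, `f_i ↦ -e_j`. -/
def cBZ (i j : Fin 4) (a b : Fin 4 ⊕ Fin 4) : ℤ :=
  (if a = Sum.inl i ∧ b = Sum.inr j then 1 else 0) -
    (if a = Sum.inl j ∧ b = Sum.inr i then 1 else 0)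

/-- integer matrix of the root `-ε_i - ε_j`: `e_j ↦ f_i`, `e_i ↦ -f_j`. -/
def cCZ (i j : Fin 4) (a b : Fin 4 ⊕ Fin 4) : ℤ :=
  (if a = Sum.inr i ∧ b = Sum.inl j then 1 else 0) -
    (if a = Sum.inr j ∧ b = Sum.inl i then 1 else 0)

set_option maxRecDepth 100000 in
theorem tabA : ∀ i j : Fin 4, i ≠ j → ∃ r : Fin 24, ∃ s : Fin 2,
    ∀ a b : Fin 4 ⊕ Fin 4, tab3 nListD4 r.val (ix8 a) (ix8 b) =
      (if s = 0 then 1 else -1) * cAZ i j a b := by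
  decide +kernel

set_option maxRecDepth 100000 in
theorem tabB : ∀ i j : Fin 4, i ≠ j → ∃ r : Fin 24, ∃ s : Fin 2,
    ∀ a b : Fin 4 ⊕ Fin 4, tab3 nListD4 r.val (ix8 a) (ix8 b) =
      (if s = 0 then 1 else -1) * cBZ i j a b := by
  decide +kernel

set_option maxRecDepth 100000 in
theorem tabC : ∀ i j : Fin 4, i ≠ j → ∃ r : Fin 24, ∃ s : Fin 2,
    ∀ a b : Fin 4 ⊕ Fin 4, tab3 nListD4 r.val (ix8 a) (ix8 b) =
      (if s = 0 then 1 else -1) * cCZ i j a b := by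
  decide +kernel

section
variable {K : Type u} [Field K]

/-- a root element with a given integer matrix (up to sign) acts by that matrix. -/
theorem elem_gen (hU : PkgUnitD4.{u}) (r : Fin 24) (s : Fin 2)
    (c : Fin 4 ⊕ Fin 4 → Fin 4 ⊕ Fin 4 → ℤ)
    (h : ∀ a b : Fin 4 ⊕ Fin 4, tab3 nListD4 r.val (ix8 a) (ix8 b) =
      (if s = 0 then 1 else -1) * c a b) (t : K) :
    ∃ ρ : GL (Fin 4 ⊕ Fin 4) K, ρ ∈ RD4 K ∧ ∀ (v : Fin 4 ⊕ Fin 4 → K) (a : Fin 4 ⊕ Fin 4),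
      ((ρ : Matrix (Fin 4 ⊕ Fin 4) (Fin 4 ⊕ Fin 4) K) *ᵥ v) a =
        v a + t * ∑ b, ((c a b : ℤ) : K) * v b := by
  classical
  obtain ⟨σ, hσ⟩ : ∃ σ : K, σ = if s = 0 then 1 else -1 := ⟨_, rfl⟩
  have hσσ : σ * σ = 1 := by
    rw [hσ]; split_ifs <;> ring
  have hr : r.val < Cfsg.Lie.chevD4.nroots := r.isLt
  refine ⟨ED4 K ⟨r.val, hr⟩ (σ * t), Subgroup.subset_closure ⟨(⟨r.val, hr⟩, σ * t), rfl⟩, ?_⟩
  intro v a
  have hval : ((ED4 K ⟨r.val, hr⟩ (σ * t) : GL (Fin 4 ⊕ Fin 4) K) :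
      Matrix (Fin 4 ⊕ Fin 4) (Fin 4 ⊕ Fin 4) K) = ED4mat K r.val (σ * t) := by
    unfold ED4
    rw [dif_pos (hU K r.val (σ * t) r.isLt)]
    exact IsUnit.unit_spec _
  rw [hval]
  unfold ED4mat
  rw [Matrix.add_mulVec, Matrix.one_mulVec, Matrix.smul_mulVec, Pi.add_apply, Pi.smul_apply,
    smul_eq_mul]
  congr 1
  have e : (ND4 K r.val *ᵥ v) a = σ * ∑ b, ((c a b : ℤ) : K) * v b := by
    simp only [Matrix.mulVec, dotProduct, ND4, Matrix.of_apply]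
    rw [Finset.mul_sum]
    refine Finset.sum_congr rfl (fun b _ => ?_)
    rw [h a b, hσ]
    push_cast
    split_ifs <;> ring
  rw [e]
  linear_combination (t * ∑ b, ((c a b : ℤ) : K) * v b) * hσσ

theorem sum_ite_pair (P : Prop) [Decidable P] (c : Fin 4 ⊕ Fin 4) (v : Fin 4 ⊕ Fin 4 → K) :
    ∑ b, (((if P ∧ b = c then (1 : ℤ) else 0 : ℤ) : K)) * v b = if P then v c else 0 := by
  by_cases hP : P <;> simp [hP]

theorem cA_sum (i j : Fin 4) (a : Fin 4 ⊕ Fin 4) (v : Fin 4 ⊕ Fin 4 → K) :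
    ∑ b, ((cAZ i j a b : ℤ) : K) * v b =
      (if a = Sum.inl i then v (Sum.inl j) else 0) -
        (if a = Sum.inr j then v (Sum.inr i) else 0) := by
  simp only [cAZ, Int.cast_sub, sub_mul, Finset.sum_sub_distrib, sum_ite_pair]

theorem cB_sum (i j : Fin 4) (a : Fin 4 ⊕ Fin 4) (v : Fin 4 ⊕ Fin 4 → K) :
    ∑ b, ((cBZ i j a b : ℤ) : K) * v b =
      (if a = Sum.inl i then v (Sum.inr j) else 0) -
        (if a = Sum.inl j then v (Sum.inr i) else 0) := by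
  simp only [cBZ, Int.cast_sub, sub_mul, Finset.sum_sub_distrib, sum_ite_pair]

theorem cC_sum (i j : Fin 4) (a : Fin 4 ⊕ Fin 4) (v : Fin 4 ⊕ Fin 4 → K) :
    ∑ b, ((cCZ i j a b : ℤ) : K) * v b =
      (if a = Sum.inr i then v (Sum.inl j) else 0) -
        (if a = Sum.inr j then v (Sum.inl i) else 0) := by
  simp only [cCZ, Int.cast_sub, sub_mul, Finset.sum_sub_distrib, sum_ite_pair]

/-- root element of `ε_i - ε_j`. -/
theorem elemA (hU : PkgUnitD4.{u}) (i j : Fin 4) (hij : i ≠ j) (t : K) :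
    ∃ ρ : GL (Fin 4 ⊕ Fin 4) K, ρ ∈ RD4 K ∧ ∀ (v : Fin 4 ⊕ Fin 4 → K) (a : Fin 4 ⊕ Fin 4),
      ((ρ : Matrix (Fin 4 ⊕ Fin 4) (Fin 4 ⊕ Fin 4) K) *ᵥ v) a =
        v a + t * ((if a = Sum.inl i then v (Sum.inl j) else 0) -
          (if a = Sum.inr j then v (Sum.inr i) else 0)) := by
  obtain ⟨r, s, h⟩ := tabA i j hij
  obtain ⟨ρ, hρ, hact⟩ := elem_gen hU r s _ h t
  exact ⟨ρ, hρ, fun v a => by rw [hact, cA_sum]⟩

/-- root element of `ε_i + ε_j`. -/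
theorem elemB (hU : PkgUnitD4.{u}) (i j : Fin 4) (hij : i ≠ j) (t : K) :
    ∃ ρ : GL (Fin 4 ⊕ Fin 4) K, ρ ∈ RD4 K ∧ ∀ (v : Fin 4 ⊕ Fin 4 → K) (a : Fin 4 ⊕ Fin 4),
      ((ρ : Matrix (Fin 4 ⊕ Fin 4) (Fin 4 ⊕ Fin 4) K) *ᵥ v) a =
        v a + t * ((if a = Sum.inl i then v (Sum.inr j) else 0) -
          (if a = Sum.inl j then v (Sum.inr i) else 0)) := by
  obtain ⟨r, s, h⟩ := tabB i j hij
  obtain ⟨ρ, hρ, hact⟩ := elem_gen hU r s _ h t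
  exact ⟨ρ, hρ, fun v a => by rw [hact, cB_sum]⟩

/-- root element of `-ε_i - ε_j`. -/
theorem elemC (hU : PkgUnitD4.{u}) (i j : Fin 4) (hij : i ≠ j) (t : K) :
    ∃ ρ : GL (Fin 4 ⊕ Fin 4) K, ρ ∈ RD4 K ∧ ∀ (v : Fin 4 ⊕ Fin 4 → K) (a : Fin 4 ⊕ Fin 4),
      ((ρ : Matrix (Fin 4 ⊕ Fin 4) (Fin 4 ⊕ Fin 4) K) *ᵥ v) a =
        v a + t * ((if a = Sum.inr i then v (Sum.inl j) else 0) -
          (if a = Sum.inr j then v (Sum.inl i) else 0)) := by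
  obtain ⟨r, s, h⟩ := tabC i j hij
  obtain ⟨ρ, hρ, hact⟩ := elem_gen hU r s _ h t
  exact ⟨ρ, hρ, fun v a => by rw [hact, cC_sum]⟩

/-- admissible elements: in `R` and fixing `e_l`, `f_l` for `l < k`. -/
def Good (k : ℕ) (ρ : GL (Fin 4 ⊕ Fin 4) K) : Prop :=
  ρ ∈ RD4 K ∧ ∀ l : Fin 4, l.val < k →
    (ρ : Matrix (Fin 4 ⊕ Fin 4) (Fin 4 ⊕ Fin 4) K) *ᵥ eD K l = eD K l ∧
    (ρ : Matrix (Fin 4 ⊕ Fin 4) (Fin 4 ⊕ Fin 4) K) *ᵥ fD K l = fD K l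

theorem good_one (k : ℕ) : Good k (1 : GL (Fin 4 ⊕ Fin 4) K) :=
  ⟨Subgroup.one_mem _, fun l _ => by simp⟩

theorem Good.mul {k : ℕ} {ρ₁ ρ₂ : GL (Fin 4 ⊕ Fin 4) K} (h1 : Good k ρ₁) (h2 : Good k ρ₂) :
    Good k (ρ₁ * ρ₂) := by
  refine ⟨Subgroup.mul_mem _ h1.1 h2.1, fun l hl => ?_⟩
  rw [Units.val_mul, ← Matrix.mulVec_mulVec, ← Matrix.mulVec_mulVec, (h2.2 l hl).1, (h2.2 l hl).2]
  exact h1.2 l hl

theorem goodA (hU : PkgUnitD4.{u}) (k : ℕ) (i j : Fin 4) (hij : i ≠ j) (hi : k ≤ i.val)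
    (hj : k ≤ j.val) (t : K) :
    ∃ ρ : GL (Fin 4 ⊕ Fin 4) K, Good k ρ ∧ ∀ (v : Fin 4 ⊕ Fin 4 → K) (a : Fin 4 ⊕ Fin 4),
      ((ρ : Matrix (Fin 4 ⊕ Fin 4) (Fin 4 ⊕ Fin 4) K) *ᵥ v) a =
        v a + t * ((if a = Sum.inl i then v (Sum.inl j) else 0) -
          (if a = Sum.inr j then v (Sum.inr i) else 0)) := by
  obtain ⟨ρ, hρ, hact⟩ := elemA hU i j hij t
  refine ⟨ρ, ⟨hρ, fun l hl => ?_⟩, hact⟩
  have hli : i ≠ l := by rintro rfl; omega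
  have hlj : j ≠ l := by rintro rfl; omega
  constructor
  · funext a
    rw [hact]
    simp [eD, Pi.single_apply, hlj, hli]
  · funext a
    rw [hact]
    simp [fD, Pi.single_apply, hlj, hli]

theorem goodB (hU : PkgUnitD4.{u}) (k : ℕ) (i j : Fin 4) (hij : i ≠ j) (hi : k ≤ i.val)
    (hj : k ≤ j.val) (t : K) :
    ∃ ρ : GL (Fin 4 ⊕ Fin 4) K, Good k ρ ∧ ∀ (v : Fin 4 ⊕ Fin 4 → K) (a : Fin 4 ⊕ Fin 4),
      ((ρ : Matrix (Fin 4 ⊕ Fin 4) (Fin 4 ⊕ Fin 4) K) *ᵥ v) a =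
        v a + t * ((if a = Sum.inl i then v (Sum.inr j) else 0) -
          (if a = Sum.inl j then v (Sum.inr i) else 0)) := by
  obtain ⟨ρ, hρ, hact⟩ := elemB hU i j hij t
  refine ⟨ρ, ⟨hρ, fun l hl => ?_⟩, hact⟩
  have hli : i ≠ l := by rintro rfl; omega
  have hlj : j ≠ l := by rintro rfl; omega
  constructor
  · funext a
    rw [hact]
    simp [eD, Pi.single_apply, hlj, hli]
  · funext a
    rw [hact]
    simp [fD, Pi.single_apply, hlj, hli]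

theorem goodC (hU : PkgUnitD4.{u}) (k : ℕ) (i j : Fin 4) (hij : i ≠ j) (hi : k ≤ i.val)
    (hj : k ≤ j.val) (t : K) :
    ∃ ρ : GL (Fin 4 ⊕ Fin 4) K, Good k ρ ∧ ∀ (v : Fin 4 ⊕ Fin 4 → K) (a : Fin 4 ⊕ Fin 4),
      ((ρ : Matrix (Fin 4 ⊕ Fin 4) (Fin 4 ⊕ Fin 4) K) *ᵥ v) a =
        v a + t * ((if a = Sum.inr i then v (Sum.inl j) else 0) -
          (if a = Sum.inr j then v (Sum.inl i) else 0)) := by
  obtain ⟨ρ, hρ, hact⟩ := elemC hU i j hij t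
  refine ⟨ρ, ⟨hρ, fun l hl => ?_⟩, hact⟩
  have hli : i ≠ l := by rintro rfl; omega
  have hlj : j ≠ l := by rintro rfl; omega
  constructor
  · funext a
    rw [hact]
    simp [eD, Pi.single_apply, hlj, hli]
  · funext a
    rw [hact]
    simp [fD, Pi.single_apply, hlj, hli]

/-- kill the coordinates of the pair `j` of a vector with non-zero `e_k`-coordinate. -/
theorem killV (hU : PkgUnitD4.{u}) (k j : Fin 4) (hkj : k.val < j.val)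
    (u : Fin 4 ⊕ Fin 4 → K) (hu : u (Sum.inl k) ≠ 0) :
    ∃ ρ : GL (Fin 4 ⊕ Fin 4) K, Good k.val ρ ∧
      ((ρ : Matrix (Fin 4 ⊕ Fin 4) (Fin 4 ⊕ Fin 4) K) *ᵥ u) (Sum.inl j) = 0 ∧
      ((ρ : Matrix (Fin 4 ⊕ Fin 4) (Fin 4 ⊕ Fin 4) K) *ᵥ u) (Sum.inr j) = 0 ∧
      ((ρ : Matrix (Fin 4 ⊕ Fin 4) (Fin 4 ⊕ Fin 4) K) *ᵥ u) (Sum.inl k) = u (Sum.inl k) ∧
      ∀ l : Fin 4, l ≠ j → l ≠ k →
        ((ρ : Matrix (Fin 4 ⊕ Fin 4) (Fin 4 ⊕ Fin 4) K) *ᵥ u) (Sum.inl l) = u (Sum.inl l) ∧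
        ((ρ : Matrix (Fin 4 ⊕ Fin 4) (Fin 4 ⊕ Fin 4) K) *ᵥ u) (Sum.inr l) = u (Sum.inr l) := by
  have hjk : j ≠ k := by rintro rfl; omega
  have hkj' : k ≠ j := hjk.symm
  obtain ⟨ρ₁, g1, a1⟩ := goodA hU k.val j k hjk (by omega) le_rfl
    (-(u (Sum.inl j)) / u (Sum.inl k))
  obtain ⟨u₁, hu₁⟩ : ∃ u₁ : Fin 4 ⊕ Fin 4 → K,
    u₁ = (ρ₁ : Matrix (Fin 4 ⊕ Fin 4) (Fin 4 ⊕ Fin 4) K) *ᵥ u := ⟨_, rfl⟩
  have e1 : u₁ (Sum.inl j) = 0 := by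
    rw [hu₁, a1]; simp; field_simp; ring
  have e2 : u₁ (Sum.inl k) = u (Sum.inl k) := by
    rw [hu₁, a1]; simp [hkj']
  have e3 : ∀ l : Fin 4, l ≠ j → u₁ (Sum.inl l) = u (Sum.inl l) := fun l hl => by
    rw [hu₁, a1]; simp [hl]
  have e4 : ∀ l : Fin 4, l ≠ k → u₁ (Sum.inr l) = u (Sum.inr l) := fun l hl => by
    rw [hu₁, a1]; simp [hl]
  have hu1 : u₁ (Sum.inl k) ≠ 0 := by rw [e2]; exact hu
  obtain ⟨ρ₂, g2, a2⟩ := goodC hU k.val j k hjk (by omega) le_rfl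
    (-(u₁ (Sum.inr j)) / u₁ (Sum.inl k))
  refine ⟨ρ₂ * ρ₁, g2.mul g1, ?_, ?_, ?_, ?_⟩
  · rw [Units.val_mul, ← Matrix.mulVec_mulVec, ← hu₁, a2]; simp [e1]
  · rw [Units.val_mul, ← Matrix.mulVec_mulVec, ← hu₁, a2]; simp [hjk]; field_simp; ring
  · rw [Units.val_mul, ← Matrix.mulVec_mulVec, ← hu₁, a2]; simp [e2]
  · intro l hlj hlk
    rw [Units.val_mul, ← Matrix.mulVec_mulVec, ← hu₁, a2, a2]
    simp [hlj, hlk, e3 l hlj, e4 l hlk]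

/-- kill the coordinates of the pair `j` of a vector with non-zero `f_k`-coordinate, fixing
`e_k`. -/
theorem killW (hU : PkgUnitD4.{u}) (k j : Fin 4) (hkj : k.val < j.val)
    (u : Fin 4 ⊕ Fin 4 → K) (hu : u (Sum.inr k) ≠ 0) :
    ∃ ρ : GL (Fin 4 ⊕ Fin 4) K, Good k.val ρ ∧
      (ρ : Matrix (Fin 4 ⊕ Fin 4) (Fin 4 ⊕ Fin 4) K) *ᵥ eD K k = eD K k ∧
      ((ρ : Matrix (Fin 4 ⊕ Fin 4) (Fin 4 ⊕ Fin 4) K) *ᵥ u) (Sum.inl j) = 0 ∧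
      ((ρ : Matrix (Fin 4 ⊕ Fin 4) (Fin 4 ⊕ Fin 4) K) *ᵥ u) (Sum.inr j) = 0 ∧
      ((ρ : Matrix (Fin 4 ⊕ Fin 4) (Fin 4 ⊕ Fin 4) K) *ᵥ u) (Sum.inr k) = u (Sum.inr k) ∧
      ∀ l : Fin 4, l ≠ j → l ≠ k →
        ((ρ : Matrix (Fin 4 ⊕ Fin 4) (Fin 4 ⊕ Fin 4) K) *ᵥ u) (Sum.inl l) = u (Sum.inl l) ∧
        ((ρ : Matrix (Fin 4 ⊕ Fin 4) (Fin 4 ⊕ Fin 4) K) *ᵥ u) (Sum.inr l) = u (Sum.inr l) := by
  have hjk : j ≠ k := by rintro rfl; omega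
  have hkj' : k ≠ j := hjk.symm
  obtain ⟨ρ₁, g1, a1⟩ := goodB hU k.val k j hkj' le_rfl (by omega)
    (u (Sum.inl j) / u (Sum.inr k))
  obtain ⟨u₁, hu₁⟩ : ∃ u₁ : Fin 4 ⊕ Fin 4 → K,
    u₁ = (ρ₁ : Matrix (Fin 4 ⊕ Fin 4) (Fin 4 ⊕ Fin 4) K) *ᵥ u := ⟨_, rfl⟩
  have e1 : u₁ (Sum.inl j) = 0 := by
    rw [hu₁, a1]; simp [hjk]; field_simp; ring
  have e2 : ∀ l : Fin 4, u₁ (Sum.inr l) = u (Sum.inr l) := fun l => by
    rw [hu₁, a1]; simp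
  have e3 : ∀ l : Fin 4, l ≠ j → l ≠ k → u₁ (Sum.inl l) = u (Sum.inl l) := fun l hl hl' => by
    rw [hu₁, a1]; simp [hl, hl']
  have hu1 : u₁ (Sum.inr k) ≠ 0 := by rw [e2]; exact hu
  have f1 : (ρ₁ : Matrix (Fin 4 ⊕ Fin 4) (Fin 4 ⊕ Fin 4) K) *ᵥ eD K k = eD K k := by
    funext a
    rw [a1]
    simp [eD, Pi.single_apply]
  obtain ⟨ρ₂, g2, a2⟩ := goodA hU k.val k j hkj' le_rfl (by omega)
    (u₁ (Sum.inr j) / u₁ (Sum.inr k))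
  have f2 : (ρ₂ : Matrix (Fin 4 ⊕ Fin 4) (Fin 4 ⊕ Fin 4) K) *ᵥ eD K k = eD K k := by
    funext a
    rw [a2]
    simp [eD, Pi.single_apply, hjk]
  refine ⟨ρ₂ * ρ₁, g2.mul g1, ?_, ?_, ?_, ?_, ?_⟩
  · rw [Units.val_mul, ← Matrix.mulVec_mulVec, f1, f2]
  · rw [Units.val_mul, ← Matrix.mulVec_mulVec, ← hu₁, a2]; simp [hjk, e1]
  · rw [Units.val_mul, ← Matrix.mulVec_mulVec, ← hu₁, a2]; simp; field_simp; ring
  · rw [Units.val_mul, ← Matrix.mulVec_mulVec, ← hu₁, a2]; simp [hkj', e2]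
  · intro l hlj hlk
    rw [Units.val_mul, ← Matrix.mulVec_mulVec, ← hu₁, a2, a2]
    simp [hlj, hlk, e3 l hlj hlk, e2 l]

theorem killSetV (hU : PkgUnitD4.{u}) (k : Fin 4) (S : Finset (Fin 4))
    (hS : ∀ j ∈ S, k.val < j.val) (u : Fin 4 ⊕ Fin 4 → K) (hu : u (Sum.inl k) ≠ 0) :
    ∃ ρ : GL (Fin 4 ⊕ Fin 4) K, Good k.val ρ ∧
      ((ρ : Matrix (Fin 4 ⊕ Fin 4) (Fin 4 ⊕ Fin 4) K) *ᵥ u) (Sum.inl k) = u (Sum.inl k) ∧
      (∀ j ∈ S, ((ρ : Matrix (Fin 4 ⊕ Fin 4) (Fin 4 ⊕ Fin 4) K) *ᵥ u) (Sum.inl j) = 0 ∧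
        ((ρ : Matrix (Fin 4 ⊕ Fin 4) (Fin 4 ⊕ Fin 4) K) *ᵥ u) (Sum.inr j) = 0) ∧
      ∀ l : Fin 4, l ∉ S → l ≠ k →
        ((ρ : Matrix (Fin 4 ⊕ Fin 4) (Fin 4 ⊕ Fin 4) K) *ᵥ u) (Sum.inl l) = u (Sum.inl l) ∧
        ((ρ : Matrix (Fin 4 ⊕ Fin 4) (Fin 4 ⊕ Fin 4) K) *ᵥ u) (Sum.inr l) = u (Sum.inr l) := by
  classical
  induction S using Finset.induction_on with
  | empty =>
    exact ⟨1, good_one _, by simp, by simp, fun l _ _ => by simp⟩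
  | insert j S hjS ih =>
    obtain ⟨ρ, g, h1, h2, h3⟩ := ih (fun j' hj' => hS j' (Finset.mem_insert_of_mem hj'))
    have hkj := hS j (Finset.mem_insert_self j S)
    obtain ⟨ρ', g', k1, k2, k3, k4⟩ := killV hU k j hkj
      ((ρ : Matrix (Fin 4 ⊕ Fin 4) (Fin 4 ⊕ Fin 4) K) *ᵥ u) (by rw [h1]; exact hu)
    refine ⟨ρ' * ρ, g'.mul g, ?_, ?_, ?_⟩
    · rw [Units.val_mul, ← Matrix.mulVec_mulVec, k3, h1]
    · intro j' hj'
      rw [Units.val_mul, ← Matrix.mulVec_mulVec]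
      rcases Finset.mem_insert.mp hj' with rfl | hj''
      · exact ⟨k1, k2⟩
      · have hne : j' ≠ j := fun h => hjS (h ▸ hj'')
        have hnk : j' ≠ k := by
          rintro rfl
          have := hS _ (Finset.mem_insert_of_mem hj'')
          omega
        rw [(k4 j' hne hnk).1, (k4 j' hne hnk).2]
        exact h2 j' hj''
    · intro l hl hlk
      rw [Units.val_mul, ← Matrix.mulVec_mulVec]
      have hlj : l ≠ j := fun h => hl (h ▸ Finset.mem_insert_self j S)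
      have hlS : l ∉ S := fun h => hl (Finset.mem_insert_of_mem h)
      rw [(k4 l hlj hlk).1, (k4 l hlj hlk).2]
      exact h3 l hlS hlk

theorem killSetW (hU : PkgUnitD4.{u}) (k : Fin 4) (S : Finset (Fin 4))
    (hS : ∀ j ∈ S, k.val < j.val) (u : Fin 4 ⊕ Fin 4 → K) (hu : u (Sum.inr k) ≠ 0) :
    ∃ ρ : GL (Fin 4 ⊕ Fin 4) K, Good k.val ρ ∧
      (ρ : Matrix (Fin 4 ⊕ Fin 4) (Fin 4 ⊕ Fin 4) K) *ᵥ eD K k = eD K k ∧
      ((ρ : Matrix (Fin 4 ⊕ Fin 4) (Fin 4 ⊕ Fin 4) K) *ᵥ u) (Sum.inr k) = u (Sum.inr k) ∧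
      (∀ j ∈ S, ((ρ : Matrix (Fin 4 ⊕ Fin 4) (Fin 4 ⊕ Fin 4) K) *ᵥ u) (Sum.inl j) = 0 ∧
        ((ρ : Matrix (Fin 4 ⊕ Fin 4) (Fin 4 ⊕ Fin 4) K) *ᵥ u) (Sum.inr j) = 0) ∧
      ∀ l : Fin 4, l ∉ S → l ≠ k →
        ((ρ : Matrix (Fin 4 ⊕ Fin 4) (Fin 4 ⊕ Fin 4) K) *ᵥ u) (Sum.inl l) = u (Sum.inl l) ∧
        ((ρ : Matrix (Fin 4 ⊕ Fin 4) (Fin 4 ⊕ Fin 4) K) *ᵥ u) (Sum.inr l) = u (Sum.inr l) := by
  classical
  induction S using Finset.induction_on with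
  | empty =>
    exact ⟨1, good_one _, by simp, by simp, by simp, fun l _ _ => by simp⟩
  | insert j S hjS ih =>
    obtain ⟨ρ, g, h0, h1, h2, h3⟩ := ih (fun j' hj' => hS j' (Finset.mem_insert_of_mem hj'))
    have hkj := hS j (Finset.mem_insert_self j S)
    obtain ⟨ρ', g', k0, k1, k2, k3, k4⟩ := killW hU k j hkj
      ((ρ : Matrix (Fin 4 ⊕ Fin 4) (Fin 4 ⊕ Fin 4) K) *ᵥ u) (by rw [h1]; exact hu)
    refine ⟨ρ' * ρ, g'.mul g, ?_, ?_, ?_, ?_⟩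
    · rw [Units.val_mul, ← Matrix.mulVec_mulVec, h0, k0]
    · rw [Units.val_mul, ← Matrix.mulVec_mulVec, k3, h1]
    · intro j' hj'
      rw [Units.val_mul, ← Matrix.mulVec_mulVec]
      rcases Finset.mem_insert.mp hj' with rfl | hj''
      · exact ⟨k1, k2⟩
      · have hne : j' ≠ j := fun h => hjS (h ▸ hj'')
        have hnk : j' ≠ k := by
          rintro rfl
          have := hS _ (Finset.mem_insert_of_mem hj'')
          omega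
        rw [(k4 j' hne hnk).1, (k4 j' hne hnk).2]
        exact h2 j' hj''
    · intro l hl hlk
      rw [Units.val_mul, ← Matrix.mulVec_mulVec]
      have hlj : l ≠ j := fun h => hl (h ▸ Finset.mem_insert_self j S)
      have hlS : l ∉ S := fun h => hl (Finset.mem_insert_of_mem h)
      rw [(k4 l hlj hlk).1, (k4 l hlj hlk).2]
      exact h3 l hlS hlk

/-- make the `e_k`-coordinate non-zero. -/
theorem nzV (hU : PkgUnitD4.{u}) (k : Fin 4) (hk : k.val < 3) (v : Fin 4 ⊕ Fin 4 → K)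
    (hlow : ∀ l : Fin 4, l.val < k.val → v (Sum.inl l) = 0 ∧ v (Sum.inr l) = 0) (hv : v ≠ 0) :
    ∃ ρ : GL (Fin 4 ⊕ Fin 4) K, Good k.val ρ ∧
      ((ρ : Matrix (Fin 4 ⊕ Fin 4) (Fin 4 ⊕ Fin 4) K) *ᵥ v) (Sum.inl k) ≠ 0 := by
  by_cases h0 : v (Sum.inl k) = 0
  swap
  · exact ⟨1, good_one _, by simpa using h0⟩
  by_cases h1 : ∃ j : Fin 4, k.val < j.val ∧ v (Sum.inl j) ≠ 0
  · obtain ⟨j, hkj, hj⟩ := h1
    have hkj' : k ≠ j := by rintro rfl; omega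
    obtain ⟨ρ, g, a⟩ := goodA hU k.val k j hkj' le_rfl (by omega) (1 : K)
    refine ⟨ρ, g, ?_⟩
    rw [a]
    simpa [h0] using hj
  by_cases h2 : ∃ j : Fin 4, k.val < j.val ∧ v (Sum.inr j) ≠ 0
  · obtain ⟨j, hkj, hj⟩ := h2
    have hkj' : k ≠ j := by rintro rfl; omega
    obtain ⟨ρ, g, a⟩ := goodB hU k.val k j hkj' le_rfl (by omega) (1 : K)
    refine ⟨ρ, g, ?_⟩
    rw [a]
    simpa [h0, hkj'] using hj
  have h1' : ∀ j : Fin 4, k.val < j.val → v (Sum.inl j) = 0 := fun j hj => by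
    by_contra hne
    exact h1 ⟨j, hj, hne⟩
  have h2' : ∀ j : Fin 4, k.val < j.val → v (Sum.inr j) = 0 := fun j hj => by
    by_contra hne
    exact h2 ⟨j, hj, hne⟩
  have h3 : v (Sum.inr k) ≠ 0 := by
    intro h3
    apply hv
    funext a
    rcases a with l | l
    · rcases lt_trichotomy l.val k.val with h | h | h
      · exact (hlow l h).1
      · have : l = k := Fin.ext h
        rw [this]; exact h0
      · exact h1' l h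
    · rcases lt_trichotomy l.val k.val with h | h | h
      · exact (hlow l h).2
      · have : l = k := Fin.ext h
        rw [this]; exact h3
      · exact h2' l h
  obtain ⟨j, hj3⟩ : ∃ j : Fin 4, j.val = 3 := ⟨3, rfl⟩
  have hkj : k.val < j.val := by omega
  have hkj' : k ≠ j := by rintro rfl; omega
  obtain ⟨ρ₁, g1, a1⟩ := goodA hU k.val k j hkj' le_rfl (by omega) (1 : K)
  obtain ⟨ρ₂, g2, a2⟩ := goodB hU k.val k j hkj' le_rfl (by omega) (1 : K)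
  refine ⟨ρ₂ * ρ₁, g2.mul g1, ?_⟩
  rw [Units.val_mul, ← Matrix.mulVec_mulVec, a2, a1, a1]
  simp [h0, hkj', h1' j hkj, h2' j hkj, h3]

theorem polD_comm (x y : Fin 4 ⊕ Fin 4 → K) : polD x y = polD y x := by
  unfold polD
  refine Finset.sum_congr rfl (fun i _ => ?_)
  ring

/-- an admissible isometry preserves the vanishing of the coordinates below `k`. -/
theorem low_zero (hRO : PkgRoD4.{u}) (k : ℕ) (ρ : GL (Fin 4 ⊕ Fin 4) K) (g : Good k ρ)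
    (x : Fin 4 ⊕ Fin 4 → K)
    (hlow : ∀ l : Fin 4, l.val < k → x (Sum.inl l) = 0 ∧ x (Sum.inr l) = 0) :
    ∀ l : Fin 4, l.val < k →
      ((ρ : Matrix (Fin 4 ⊕ Fin 4) (Fin 4 ⊕ Fin 4) K) *ᵥ x) (Sum.inl l) = 0 ∧
      ((ρ : Matrix (Fin 4 ⊕ Fin 4) (Fin 4 ⊕ Fin 4) K) *ᵥ x) (Sum.inr l) = 0 := by
  intro l hl
  have hiso := hRO K g.1
  constructor
  · have h := iso_polD hiso x (fD K l)
    rw [(g.2 l hl).2, polD_fD, polD_fD] at h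
    rw [h]; exact (hlow l hl).1
  · have h := iso_polD hiso x (eD K l)
    rw [(g.2 l hl).1, polD_eD, polD_eD] at h
    rw [h]; exact (hlow l hl).2

/-- the value of the form on a vector supported on the pair `k`. -/
theorem quad_pair (k : Fin 4) (x : Fin 4 ⊕ Fin 4 → K)
    (h : ∀ l : Fin 4, l ≠ k → x (Sum.inl l) = 0 ∧ x (Sum.inr l) = 0) :
    Cfsg.quadFormPlus 4 K x = x (Sum.inl k) * x (Sum.inr k) := by
  unfold Cfsg.quadFormPlus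
  rw [Finset.sum_eq_single k]
  · intro l _ hl
    rw [(h l hl).1, zero_mul]
  · intro hk
    exact absurd (Finset.mem_univ k) hk

end

/-- **[ST-D4-k]**, `k = 0, 1, 2`: one reduction step. -/
theorem pkgStD4_of (hU : PkgUnitD4.{u}) (hRO : PkgRoD4.{u}) (k : ℕ) (hk : k < 3) :
    PkgStD4.{u} k := by
  intro K _ g hg hm
  classical
  obtain ⟨kk, hkk⟩ : ∃ kk : Fin 4, kk.val = k := ⟨⟨k, by omega⟩, rfl⟩
  subst hkk
  obtain ⟨v, hv⟩ : ∃ v : Fin 4 ⊕ Fin 4 → K,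
    v = (g : Matrix (Fin 4 ⊕ Fin 4) (Fin 4 ⊕ Fin 4) K) *ᵥ eD K kk := ⟨_, rfl⟩
  obtain ⟨w, hw⟩ : ∃ w : Fin 4 ⊕ Fin 4 → K,
    w = (g : Matrix (Fin 4 ⊕ Fin 4) (Fin 4 ⊕ Fin 4) K) *ᵥ fD K kk := ⟨_, rfl⟩
  have hB : polD v w = 1 := by
    rw [hv, hw, iso_polD hg, polD_fD]
    simp [eD]
  have hQv : Cfsg.quadFormPlus 4 K v = 0 := by
    rw [hv, iso_quadD hg]
    simp [Cfsg.quadFormPlus, eD]
  have hQw : Cfsg.quadFormPlus 4 K w = 0 := by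
    rw [hw, iso_quadD hg]
    simp [Cfsg.quadFormPlus, fD]
  have hvlow : ∀ l : Fin 4, l.val < kk.val → v (Sum.inl l) = 0 ∧ v (Sum.inr l) = 0 := by
    intro l hl
    obtain ⟨a, ha, he, hf⟩ := hm l hl
    have hlk : l ≠ kk := by rintro rfl; omega
    constructor
    · have h := iso_polD hg (eD K kk) (fD K l)
      rw [hf, polD_smul_right, polD_fD, polD_fD, ← hv] at h
      have h0 : (eD K kk) (Sum.inl l) = 0 := by simp [eD, Pi.single_apply, hlk]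
      rw [h0] at h
      exact (mul_eq_zero.mp h).resolve_left (inv_ne_zero ha)
    · have h := iso_polD hg (eD K kk) (eD K l)
      rw [he, polD_smul_right, polD_eD, polD_eD, ← hv] at h
      have h0 : (eD K kk) (Sum.inr l) = 0 := by simp [eD, Pi.single_apply]
      rw [h0] at h
      exact (mul_eq_zero.mp h).resolve_left ha
  have hwlow : ∀ l : Fin 4, l.val < kk.val → w (Sum.inl l) = 0 ∧ w (Sum.inr l) = 0 := by
    intro l hl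
    obtain ⟨a, ha, he, hf⟩ := hm l hl
    have hlk : l ≠ kk := by rintro rfl; omega
    constructor
    · have h := iso_polD hg (fD K kk) (fD K l)
      rw [hf, polD_smul_right, polD_fD, polD_fD, ← hw] at h
      have h0 : (fD K kk) (Sum.inl l) = 0 := by simp [fD, Pi.single_apply]
      rw [h0] at h
      exact (mul_eq_zero.mp h).resolve_left (inv_ne_zero ha)
    · have h := iso_polD hg (fD K kk) (eD K l)
      rw [he, polD_smul_right, polD_eD, polD_eD, ← hw] at h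
      have h0 : (fD K kk) (Sum.inr l) = 0 := by simp [fD, Pi.single_apply, hlk]
      rw [h0] at h
      exact (mul_eq_zero.mp h).resolve_left ha
  have hv0 : v ≠ 0 := by
    rintro rfl
    simp [polD] at hB
  -- step 1
  obtain ⟨ρ₁, g1, n1⟩ := nzV hU kk hk v hvlow hv0
  -- step 2
  obtain ⟨S, hS⟩ : ∃ S : Finset (Fin 4), S = Finset.univ.filter (fun j : Fin 4 => kk.val < j.val) :=
    ⟨_, rfl⟩
  have hSmem : ∀ j : Fin 4, j ∈ S ↔ kk.val < j.val := by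
    intro j; rw [hS]; simp
  obtain ⟨ρ₂, g2, s1, s2, s3⟩ := killSetV hU kk S (fun j hj => (hSmem j).mp hj)
    ((ρ₁ : Matrix (Fin 4 ⊕ Fin 4) (Fin 4 ⊕ Fin 4) K) *ᵥ v) n1
  have g21 : Good kk.val (ρ₂ * ρ₁) := g2.mul g1
  have hiso21 := hRO K g21.1
  obtain ⟨v₂, hv₂⟩ : ∃ v₂ : Fin 4 ⊕ Fin 4 → K,
    v₂ = ((ρ₂ * ρ₁ : GL (Fin 4 ⊕ Fin 4) K) : Matrix (Fin 4 ⊕ Fin 4) (Fin 4 ⊕ Fin 4) K) *ᵥ v :=
    ⟨_, rfl⟩
  have hv₂' : v₂ = (ρ₂ : Matrix (Fin 4 ⊕ Fin 4) (Fin 4 ⊕ Fin 4) K) *ᵥ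
      ((ρ₁ : Matrix (Fin 4 ⊕ Fin 4) (Fin 4 ⊕ Fin 4) K) *ᵥ v) := by
    rw [hv₂, Units.val_mul, Matrix.mulVec_mulVec]
  obtain ⟨a, ha⟩ : ∃ a : K, a = v₂ (Sum.inl kk) := ⟨_, rfl⟩
  have ha0 : a ≠ 0 := by rw [ha, hv₂', s1]; exact n1
  have v2low := low_zero hRO kk.val _ g21 v hvlow
  rw [← hv₂] at v2low
  have v2off : ∀ l : Fin 4, l ≠ kk → v₂ (Sum.inl l) = 0 ∧ v₂ (Sum.inr l) = 0 := by
    intro l hl
    rcases lt_or_gt_of_ne (fun h => hl (Fin.ext h) : l.val ≠ kk.val) with h | h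
    · exact v2low l h
    · rw [hv₂']; exact s2 l ((hSmem l).mpr h)
  have hQv2 : Cfsg.quadFormPlus 4 K v₂ = 0 := by rw [hv₂, iso_quadD hiso21, hQv]
  rw [quad_pair kk v₂ v2off, ← ha] at hQv2
  have v2k : v₂ (Sum.inr kk) = 0 := (mul_eq_zero.mp hQv2).resolve_left ha0
  have hv2eq : v₂ = a • eD K kk := by
    funext x
    rcases x with l | l
    · by_cases hl : l = kk
      · rw [hl, ← ha]; simp [eD]
      · rw [(v2off l hl).1]; simp [eD, Pi.single_apply, hl]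
    · by_cases hl : l = kk
      · rw [hl, v2k]; simp [eD]
      · rw [(v2off l hl).2]; simp [eD, Pi.single_apply]
  -- the image of f_k
  obtain ⟨w₂, hw₂⟩ : ∃ w₂ : Fin 4 ⊕ Fin 4 → K,
    w₂ = ((ρ₂ * ρ₁ : GL (Fin 4 ⊕ Fin 4) K) : Matrix (Fin 4 ⊕ Fin 4) (Fin 4 ⊕ Fin 4) K) *ᵥ w :=
    ⟨_, rfl⟩
  have hB2 : polD v₂ w₂ = 1 := by rw [hv₂, hw₂, iso_polD hiso21, hB]
  have w2k : w₂ (Sum.inr kk) = a⁻¹ := by
    rw [polD_comm, hv2eq, polD_smul_right, polD_eD] at hB2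
    exact eq_inv_of_mul_eq_one_right hB2
  have w2k0 : w₂ (Sum.inr kk) ≠ 0 := by rw [w2k]; exact inv_ne_zero ha0
  have w2low := low_zero hRO kk.val _ g21 w hwlow
  rw [← hw₂] at w2low
  have hQw2 : Cfsg.quadFormPlus 4 K w₂ = 0 := by rw [hw₂, iso_quadD hiso21, hQw]
  -- step 3
  obtain ⟨ρ₃, g3, f3, t1, t2, t3⟩ := killSetW hU kk S (fun j hj => (hSmem j).mp hj) w₂ w2k0
  have hiso3 := hRO K g3.1
  obtain ⟨w₃, hw₃⟩ : ∃ w₃ : Fin 4 ⊕ Fin 4 → K,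
    w₃ = (ρ₃ : Matrix (Fin 4 ⊕ Fin 4) (Fin 4 ⊕ Fin 4) K) *ᵥ w₂ := ⟨_, rfl⟩
  have w3low := low_zero hRO kk.val _ g3 w₂ w2low
  rw [← hw₃] at w3low t1 t2
  have w3off : ∀ l : Fin 4, l ≠ kk → w₃ (Sum.inl l) = 0 ∧ w₃ (Sum.inr l) = 0 := by
    intro l hl
    rcases lt_or_gt_of_ne (fun h => hl (Fin.ext h) : l.val ≠ kk.val) with h | h
    · exact w3low l h
    · exact t2 l ((hSmem l).mpr h)
  have hQw3 : Cfsg.quadFormPlus 4 K w₃ = 0 := by rw [hw₃, iso_quadD hiso3, hQw2]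
  rw [quad_pair kk w₃ w3off, t1, w2k] at hQw3
  have w3k : w₃ (Sum.inl kk) = 0 := (mul_eq_zero.mp hQw3).resolve_right (inv_ne_zero ha0)
  have hw3eq : w₃ = a⁻¹ • fD K kk := by
    funext x
    rcases x with l | l
    · by_cases hl : l = kk
      · rw [hl, w3k]; simp [fD]
      · rw [(w3off l hl).1]; simp [fD, Pi.single_apply]
    · by_cases hl : l = kk
      · rw [hl, t1, w2k]; simp [fD]
      · rw [(w3off l hl).2]; simp [fD, Pi.single_apply, hl]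
  -- conclusion
  have g321 : Good kk.val (ρ₃ * (ρ₂ * ρ₁)) := g3.mul g21
  refine ⟨ρ₃ * (ρ₂ * ρ₁), g321.1, ?_⟩
  intro i hi
  by_cases hik : i.val < kk.val
  · obtain ⟨b, hb, he, hf⟩ := hm i hik
    refine ⟨b, hb, ?_, ?_⟩
    · rw [Units.val_mul, ← Matrix.mulVec_mulVec, he, Matrix.mulVec_smul, (g321.2 i hik).1]
    · rw [Units.val_mul, ← Matrix.mulVec_mulVec, hf, Matrix.mulVec_smul, (g321.2 i hik).2]
  · have hik' : i = kk := Fin.ext (by omega)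
    rw [hik']
    refine ⟨a, ha0, ?_, ?_⟩
    · have e : ((ρ₃ * (ρ₂ * ρ₁) * g : GL (Fin 4 ⊕ Fin 4) K) :
          Matrix (Fin 4 ⊕ Fin 4) (Fin 4 ⊕ Fin 4) K) *ᵥ eD K kk =
          (ρ₃ : Matrix (Fin 4 ⊕ Fin 4) (Fin 4 ⊕ Fin 4) K) *ᵥ v₂ := by
        rw [hv₂, hv, Matrix.mulVec_mulVec, Matrix.mulVec_mulVec, ← Units.val_mul, ← Units.val_mul,
          mul_assoc]
      rw [e, hv2eq, Matrix.mulVec_smul, f3]
    · have e : ((ρ₃ * (ρ₂ * ρ₁) * g : GL (Fin 4 ⊕ Fin 4) K) :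
          Matrix (Fin 4 ⊕ Fin 4) (Fin 4 ⊕ Fin 4) K) *ᵥ fD K kk =
          (ρ₃ : Matrix (Fin 4 ⊕ Fin 4) (Fin 4 ⊕ Fin 4) K) *ᵥ w₂ := by
        rw [hw₂, hw, Matrix.mulVec_mulVec, Matrix.mulVec_mulVec, ← Units.val_mul, ← Units.val_mul,
          mul_assoc]
      rw [e, ← hw₃, hw3eq]

end Cfsg.Agent.Lib.Helper1.CHO
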